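import Groth.Agent.L17.FinLocBases
import Groth.Agent.L18.Frame
import Groth.Prelude.Def_Coh
import Mathlib.AlgebraicGeometry.Morphisms.Affine
import Mathlib.AlgebraicGeometry.Pullbacks
import Mathlib.Algebra.Category.Ring.Constructions
import Mathlib.LinearAlgebra.TensorProduct.Basis
import Mathlib.RingTheory.IsTensorProduct

/-!
An affine morphism `f : F ⟶ P` with `f_* O_F` free, over `P/k` with `H⁰(P, O) = k`, comes from the base.
-/

set_option autoImplicit false
set_option linter.style.haveILetI false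
set_option backward.isDefEq.respectTransparency.types false
set_option backward.isDefEq.respectTransparency false

universe u

open CategoryTheory CategoryTheory.Limits AlgebraicGeometry TopologicalSpace Opposite
open scoped TensorProduct

noncomputable section

namespace Groth.L15.FreeFin

open Groth.L18.Frame (rs ro rs_rs ro_ro ro_self)

theorem exists_split {P : Scheme.{u}} (d : ℕ) {M : P.Modules}
    (e : M ≅ ∐ fun _ : ULift.{u} (Fin d) => (SheafOfModules.unit P.ringCatSheaf : P.Modules)) :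
    ∃ (a : Fin d → (Coh.structureModule P ⟶ M)) (b : Fin d → (M ⟶ Coh.structureModule P)),
      (∀ i j, a i ≫ b j = if i = j then 𝟙 _ else 0) ∧ ∑ i, b i ≫ a i = 𝟙 M :=
  Groth.L17.FinLocBases.exists_split d
    (e ≪≫ Sigma.whiskerEquiv (f := fun _ : ULift.{u} (Fin d) => (SheafOfModules.unit P.ringCatSheaf : P.Modules))
      (g := fun _ : Fin d => Coh.structureModule P) Equiv.ulift (fun _ => Iso.refl _))

variable {F P : Scheme.{u}} (f : F ⟶ P)

/-- The family of sections `es` is a basis of `O_F` over every open of `P`. -/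
def IsBasisSect {d : ℕ} (es : Fin d → Γ(F, ⊤)) : Prop :=
  ∀ V : P.Opens, Function.Bijective fun r : Fin d → Γ(P, V) =>
    ∑ i, f.app V (r i) * F.presheaf.map (homOfLE (le_top : f ⁻¹ᵁ V ≤ ⊤)).op (es i)

theorem exists_isBasisSect (d : ℕ)
    (e : (Scheme.Modules.pushforward f).obj (SheafOfModules.unit F.ringCatSheaf) ≅
      ∐ fun _ : ULift.{u} (Fin d) => (SheafOfModules.unit P.ringCatSheaf : P.Modules)) :
    ∃ es : Fin d → Γ(F, ⊤), IsBasisSect f es := by
  obtain ⟨a, b, hab, hba⟩ := exists_split d e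
  exact ⟨fun i => (a i).app ⊤ (1 : Γ(P, ⊤)), fun V => Groth.L17.FinLocBases.bijective_lc a b hab hba V⟩

/-- The basis on sections over `V`. -/
theorem exists_basis {d : ℕ} {es : Fin d → Γ(F, ⊤)} (he : IsBasisSect f es) (V : P.Opens) :
    letI := (f.app V).hom.toAlgebra
    ∃ b : Module.Basis (Fin d) Γ(P, V) Γ(F, f ⁻¹ᵁ V),
      ∀ i, b i = F.presheaf.map (homOfLE (le_top : f ⁻¹ᵁ V ≤ ⊤)).op (es i) := by
  letI := (f.app V).hom.toAlgebra
  let l := Fintype.linearCombination Γ(P, V)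
    (fun i => F.presheaf.map (homOfLE (le_top : f ⁻¹ᵁ V ≤ ⊤)).op (es i))
  have hl : Function.Bijective l := he V
  refine ⟨Module.Basis.ofEquivFun (LinearEquiv.ofBijective l hl).symm, fun i => ?_⟩
  rw [Module.Basis.coe_ofEquivFun]
  show l (Pi.single i (1 : Γ(P, V))) = _
  rw [Fintype.linearCombination_apply_single, one_smul]

variable {k : Type u} [Field k] (π : P ⟶ Spec (CommRingCat.of k))

/-- The projection to `Spec` of the global functions. -/
def baseHom : CommRingCat.of k ⟶ Γ(F, ⊤) := CommRingCat.ofHom (Coh.toGlobal (f ≫ π))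

theorem toSpecΓ_baseHom : F.toSpecΓ ≫ Spec.map (baseHom f π) = f ≫ π := by
  show F.toSpecΓ ≫ Spec.map ((Scheme.ΓSpecIso (CommRingCat.of k)).inv ≫ (f ≫ π).appTop) = _
  rw [Spec.map_comp, ← Scheme.toSpecΓ_naturality_assoc, toSpecΓ_SpecMap_ΓSpecIso_inv, Category.comp_id]

/-- The affine piece. -/
theorem isPullback_affine [IsAffineHom f] {d : ℕ} {es : Fin d → Γ(F, ⊤)} (he : IsBasisSect f es)
    (hglob : Function.Bijective (Coh.toGlobal π)) (V : P.affineOpens) :
    IsPullback ((f ⁻¹ᵁ V.1).ι ≫ F.toSpecΓ) (f ∣_ V.1) (Spec.map (baseHom f π)) (V.1.ι ≫ π) := by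
  have hW : IsAffineOpen (f ⁻¹ᵁ V.1) := V.2.preimage f
  let resP := P.presheaf.map (homOfLE (le_top : V.1 ≤ ⊤)).op
  let resF := F.presheaf.map (homOfLE (le_top : f ⁻¹ᵁ V.1 ≤ ⊤)).op
  let kP : CommRingCat.of k ⟶ Γ(P, ⊤) := CommRingCat.ofHom (Coh.toGlobal π)
  have hk : baseHom f π = kP ≫ f.app ⊤ := by
    ext c
    exact congr($(Scheme.Hom.comp_appTop f π) ((Scheme.ΓSpecIso (CommRingCat.of k)).inv c))
  have hnat : f.app ⊤ ≫ resF = resP ≫ f.app V.1 := (f.naturality (homOfLE (le_top : V.1 ≤ ⊤)).op).symm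
  letI : Algebra k Γ(F, ⊤) := (baseHom f π).hom.toAlgebra
  letI : Algebra k Γ(P, V.1) := (kP ≫ resP).hom.toAlgebra
  letI : Algebra Γ(P, V.1) Γ(F, f ⁻¹ᵁ V.1) := (f.app V.1).hom.toAlgebra
  letI : Algebra Γ(F, ⊤) Γ(F, f ⁻¹ᵁ V.1) := resF.hom.toAlgebra
  letI : Algebra k Γ(F, f ⁻¹ᵁ V.1) := (baseHom f π ≫ resF).hom.toAlgebra
  haveI : IsScalarTower k Γ(F, ⊤) Γ(F, f ⁻¹ᵁ V.1) := IsScalarTower.of_algebraMap_eq' rfl
  haveI : IsScalarTower k Γ(P, V.1) Γ(F, f ⁻¹ᵁ V.1) := IsScalarTower.of_algebraMap_eq fun c => by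
    show resF ((baseHom f π) c) = f.app V.1 (resP (kP c))
    rw [hk]
    exact congr($hnat (kP c))
  obtain ⟨bV, hbV⟩ := exists_basis f he V.1
  letI algT : Algebra Γ(P, ⊤) Γ(F, f ⁻¹ᵁ (⊤ : P.Opens)) := (f.app ⊤).hom.toAlgebra
  obtain ⟨bT, hbT⟩ := exists_basis f he ⊤
  -- the basis of the global functions over `k`
  let l : (Fin d → k) →ₗ[k] Γ(F, ⊤) := Fintype.linearCombination k es
  have hl : Function.Bijective l := by
    have h : ⇑l = (fun r : Fin d → Γ(P, ⊤) =>
        ∑ i, f.app ⊤ (r i) * F.presheaf.map (homOfLE (le_top : f ⁻¹ᵁ ⊤ ≤ ⊤)).op (es i)) ∘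
          fun c => fun i => kP (c i) := by
      funext c
      show ∑ i, baseHom f π (c i) * es i = _
      simp only [Function.comp_apply]
      refine Finset.sum_congr rfl fun i _ => ?_
      rw [hk]
      exact congrArg (f.app ⊤ (kP (c i)) * ·) (ro_self (X := F) _ (es i)).symm
    rw [h]
    exact (he ⊤).comp ⟨fun x y hxy => funext fun i => hglob.1 (congrFun hxy i), fun y =>
      ⟨fun i => (Equiv.ofBijective kP hglob).symm (y i),
        funext fun i => (Equiv.ofBijective kP hglob).apply_symm_apply (y i)⟩⟩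
  let bA : Module.Basis (Fin d) k Γ(F, ⊤) := Module.Basis.ofEquivFun (LinearEquiv.ofBijective l hl).symm
  have hbA : ∀ i, bA i = es i := fun i => by
    rw [Module.Basis.coe_ofEquivFun]
    show l (Pi.single i (1 : k)) = _
    rw [Fintype.linearCombination_apply_single, one_smul]
  let E : Γ(P, V.1) ⊗[k] Γ(F, ⊤) ≃ₗ[Γ(P, V.1)] Γ(F, f ⁻¹ᵁ V.1) :=
    (bA.baseChange Γ(P, V.1)).equiv bV (Equiv.refl _)
  have hE : ∀ x : Γ(F, ⊤), E (1 ⊗ₜ x) = (IsScalarTower.toAlgHom k Γ(F, ⊤) Γ(F, f ⁻¹ᵁ V.1)).toLinearMap x := by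
    intro x
    have h : (E.toLinearMap.restrictScalars k).comp (TensorProduct.mk k Γ(P, V.1) Γ(F, ⊤) 1) =
        (IsScalarTower.toAlgHom k Γ(F, ⊤) Γ(F, f ⁻¹ᵁ V.1)).toLinearMap := bA.ext fun i => by
      show E (1 ⊗ₜ bA i) = resF (bA i)
      rw [← Module.Basis.baseChange_apply (S := Γ(P, V.1)) bA i, Module.Basis.equiv_apply, Equiv.refl_apply,
        hbV, hbA]
    exact LinearMap.congr_fun h x
  have hpush : Algebra.IsPushout k Γ(P, V.1) Γ(F, ⊤) Γ(F, f ⁻¹ᵁ V.1) :=
    ⟨IsBaseChange.of_equiv E hE⟩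
  have hsq := (isPullback_SpecMap_of_isPushout _ _ _ _ (CommRingCat.isPushout_iff_isPushout.2 hpush)).flip
  have h1 : hW.isoSpec.hom ≫ Spec.map resF = (f ⁻¹ᵁ V.1).ι ≫ F.toSpecΓ := by
    show hW.isoSpec.hom ≫ Spec.map (F.presheaf.map (homOfLE (le_top : f ⁻¹ᵁ V.1 ≤ ⊤)).op) = _
    rw [← hW.fromSpec_toSpecΓ, ← Category.assoc, hW.isoSpec_hom_fromSpec]
  have h2 : hW.isoSpec.hom ≫ Spec.map (f.app V.1) = (f ∣_ V.1) ≫ V.2.isoSpec.hom := by
    rw [← cancel_mono V.2.fromSpec, Category.assoc, Category.assoc, IsAffineOpen.isoSpec_hom_fromSpec,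
      morphismRestrict_ι, Scheme.Hom.app_eq_appLE, IsAffineOpen.SpecMap_appLE_fromSpec f V.2 hW,
      ← Category.assoc, IsAffineOpen.isoSpec_hom_fromSpec]
  have h3 : V.2.isoSpec.hom ≫ Spec.map (kP ≫ resP) = V.1.ι ≫ π := by
    have hπ : P.toSpecΓ ≫ Spec.map kP = π := by
      show P.toSpecΓ ≫ Spec.map ((Scheme.ΓSpecIso (CommRingCat.of k)).inv ≫ π.appTop) = _
      rw [Spec.map_comp, ← Scheme.toSpecΓ_naturality_assoc, toSpecΓ_SpecMap_ΓSpecIso_inv, Category.comp_id]
    rw [Spec.map_comp]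
    show V.2.isoSpec.hom ≫ Spec.map (P.presheaf.map (homOfLE (le_top : V.1 ≤ ⊤)).op) ≫ Spec.map kP = _
    rw [← V.2.fromSpec_toSpecΓ_assoc, ← Category.assoc, IsAffineOpen.isoSpec_hom_fromSpec, hπ]
  refine IsPullback.of_iso hsq hW.isoSpec.symm (Iso.refl _) V.2.isoSpec.symm (Iso.refl _) ?_ ?_ ?_ ?_
  · simp only [Iso.symm_hom, Iso.refl_hom, Category.comp_id]
    rw [← h1, Iso.inv_hom_id_assoc]
    rfl
  · simp only [Iso.symm_hom]
    show Spec.map (f.app V.1) ≫ V.2.isoSpec.inv = hW.isoSpec.inv ≫ (f ∣_ V.1)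
    rw [Iso.comp_inv_eq, Category.assoc, ← h2, Iso.inv_hom_id_assoc]
  · simp only [Iso.refl_hom, Category.comp_id, Category.id_comp]
    rfl
  · simp only [Iso.symm_hom, Iso.refl_hom, Category.comp_id]
    rw [← h3, Iso.inv_hom_id_assoc]
    rfl

/-- `F` is the product of `P` and `Spec` of its global functions. -/
theorem isPullback_toSpecΓ [IsAffineHom f] {d : ℕ} {es : Fin d → Γ(F, ⊤)} (he : IsBasisSect f es)
    (hglob : Function.Bijective (Coh.toGlobal π)) :
    IsPullback F.toSpecΓ f (Spec.map (baseHom f π)) π := by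
  let μ : F ⟶ pullback (Spec.map (baseHom f π)) π := pullback.lift F.toSpecΓ f (toSpecΓ_baseHom f π)
  haveI : IsIso μ := by
    rw [← MorphismProperty.isomorphisms.iff, IsZariskiLocalAtTarget.iff_of_iSup_eq_top (P := MorphismProperty.isomorphisms Scheme)
      (fun V : P.affineOpens => (pullback.snd (Spec.map (baseHom f π)) π) ⁻¹ᵁ V.1) ?_]
    · intro V
      rw [MorphismProperty.isomorphisms.iff]
      let T := pullback (Spec.map (baseHom f π)) π
      let q : T ⟶ P := pullback.snd _ _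
      have hT : IsPullback ((q ⁻¹ᵁ V.1).ι ≫ pullback.fst (Spec.map (baseHom f π)) π) (q ∣_ V.1)
          (Spec.map (baseHom f π)) (V.1.ι ≫ π) :=
        (isPullback_morphismRestrict q V.1).flip.paste_horiz (IsPullback.of_hasPullback _ _)
      have hF := isPullback_affine f π he hglob V
      have heq : μ ⁻¹ᵁ (q ⁻¹ᵁ V.1) = f ⁻¹ᵁ V.1 := by
        rw [← Scheme.Hom.comp_preimage]
        exact congrArg (· ⁻¹ᵁ V.1) (pullback.lift_snd _ _ _)
      have hcomp : (μ ∣_ (q ⁻¹ᵁ V.1)) = (F.isoOfEq heq).hom ≫ (hF.isoPullback ≪≫ hT.isoPullback.symm).hom := by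
        refine hT.hom_ext ?_ ?_
        · simp only [Iso.trans_hom, Iso.symm_hom, Category.assoc]
          rw [hT.isoPullback_inv_fst, hF.isoPullback_hom_fst, morphismRestrict_ι_assoc,
            Scheme.isoOfEq_hom_ι_assoc]
          exact congrArg ((μ ⁻¹ᵁ (q ⁻¹ᵁ V.1)).ι ≫ ·) (pullback.lift_fst _ _ _)
        · simp only [Iso.trans_hom, Iso.symm_hom, Category.assoc]
          rw [hT.isoPullback_inv_snd, hF.isoPullback_hom_snd, ← cancel_mono V.1.ι]
          simp only [Category.assoc, morphismRestrict_ι, morphismRestrict_ι_assoc, Scheme.isoOfEq_hom_ι_assoc]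
          exact congrArg ((μ ⁻¹ᵁ (q ⁻¹ᵁ V.1)).ι ≫ ·) (pullback.lift_snd _ _ _)
      rw [hcomp]
      infer_instance
    · rw [← Scheme.Hom.preimage_iSup, iSup_affineOpens_eq_top]
      rfl
  exact IsPullback.of_iso_pullback ⟨toSpecΓ_baseHom f π⟩ (asIso μ) (pullback.lift_fst _ _ _) (pullback.lift_snd _ _ _)

/-- With a section: the morphism is the base change of its fibre at the section. -/
theorem nonempty_iso_pullback [IsAffineHom f] (hglob : Function.Bijective (Coh.toGlobal π))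
    (s : Spec (CommRingCat.of k) ⟶ P) (hs : s ≫ π = 𝟙 _) (d : ℕ)
    (e : (Scheme.Modules.pushforward f).obj (SheafOfModules.unit F.ringCatSheaf) ≅
      ∐ fun _ : ULift.{u} (Fin d) => (SheafOfModules.unit P.ringCatSheaf : P.Modules)) :
    Nonempty (Over.mk f ≅ Over.mk (pullback.snd (pullback.snd f s) π)) := by
  obtain ⟨es, he⟩ := exists_isBasisSect f d e
  have hsq := isPullback_toSpecΓ f π he hglob
  have hG : IsPullback (pullback.fst f s ≫ F.toSpecΓ) (pullback.snd f s) (Spec.map (baseHom f π)) (𝟙 _) := by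
    have := (IsPullback.of_hasPullback f s).paste_horiz hsq
    rwa [hs] at this
  haveI : IsIso (pullback.fst f s ≫ F.toSpecΓ) := hG.isIso_fst_of_isIso
  let θ := asIso (pullback.fst f s ≫ F.toSpecΓ)
  have hF : IsPullback (F.toSpecΓ ≫ θ.inv) f (pullback.snd f s) π := by
    refine IsPullback.of_iso hsq (Iso.refl _) θ.symm (Iso.refl _) (Iso.refl _) ?_ ?_ ?_ ?_
    · simp only [Iso.symm_hom, Iso.refl_hom, Category.id_comp]
    · simp only [Iso.refl_hom, Category.id_comp, Category.comp_id]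
    · simp only [Iso.symm_hom, Iso.refl_hom, Category.comp_id]
      rw [eq_comm, Iso.inv_comp_eq]
      simpa [θ] using hG.w.symm
    · simp only [Iso.refl_hom, Category.comp_id, Category.id_comp]
  exact ⟨Over.isoMk hF.isoPullback (hF.isoPullback_hom_snd)⟩

end Groth.L15.FreeFin
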